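import Mathlib
import Cfsg.Agent.R2P.Glue
import Cfsg.Agent.ZJ.Replacement
set_option autoImplicit false
set_option linter.all false

/-!
Transport to a fully normalized subgroup, and the contradiction.
-/

namespace Cfsg.Agent.R2P

open Cfsg Subgroup Cfsg.FusionSystem Cfsg.Agent.Fus
open scoped commutatorElement

universe u

section

variable {Ω : Type u} [Group Ω] {S : Subgroup Ω} {F : FusionSystem S} {p : ℕ} [hp : Fact p.Prime]
  {X Y U : Ω} {E T : Subgroup Ω}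

theorem TData.transport [Finite S] (D : TData F p X Y U E T) {g : Ω → Ω} (hg : IsMap F (normalizerIn S T) g)
    (hE : F.IsFullyNormalized E) : TData F p (g X) (g Y) (g U) (img E g) (img T g) := by
  have hTR : T ≤ normalizerIn S T := le_normalizerIn D.TS
  have hgT : IsMap F T g := hg.mono hTR
  have hgE : IsMap F E g := hgT.mono D.ET
  have hX := D.ET D.hX
  have hY := D.ET D.hY
  have hU := D.hU
  have hcT : Nat.card (img T g) = p ^ 3 := by rw [hgT.card_img, D.cT]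
  refine ⟨hgT.img_le, img_mono D.ET, subset_img D.hX, subset_img D.hY, subset_img D.hU, ?_, hcT, ?_, ?_,
    ?_, ?_, ?_, ?_, ?_, ?_, ?_, ?_⟩
  · rw [hgE.card_img, D.cE]
  · intro e' he'
    obtain ⟨e, he, rfl⟩ := hgE.mem_img.1 he'
    obtain ⟨i, j, rfl⟩ := D.gE e he
    exact ⟨i, j, by rw [hgT.map_mul (pow_mem hX _) (pow_mem hY _), hgT.map_pow hX, hgT.map_pow hY]⟩
  · intro t' ht'
    obtain ⟨t, ht, rfl⟩ := hgT.mem_img.1 ht'
    obtain ⟨i, j, l, rfl⟩ := D.gT t ht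
    exact ⟨i, j, l, by rw [hgT.map_mul (pow_mem hU _) (mul_mem (pow_mem hX _) (pow_mem hY _)),
      hgT.map_mul (pow_mem hX _) (pow_mem hY _), hgT.map_pow hX, hgT.map_pow hY, hgT.map_pow hU]⟩
  · rw [← hgT.map_pow hX, D.Xp, hgT.map_one]
  · rw [← hgT.map_pow hY, D.Yp, hgT.map_one]
  · rw [← hgT.map_pow hU, D.Up, hgT.map_one]
  · rw [← hgT.map_mul hU hX, D.ux, hgT.map_mul hX hU]
  · rw [← hgT.map_mul hX hY, D.xy, hgT.map_mul hY hX]
  · rw [← hgT.map_conj hU hY, D.uy, hgT.map_mul hY hX]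
  · symm
    haveI : Finite (normalizerIn S (img E g)) := finite_of_le (normalizerIn_le _)
    refine eq_of_le_of_card_ge ?_ ?_
    · intro t' ht'
      obtain ⟨t, ht, rfl⟩ := hgT.mem_img.1 ht'
      refine ⟨hgT.mem ht, ?_⟩
      have h1 : t ∈ normalizerIn S E := by rw [D.norm]; exact ht
      exact hgT.map_normalizer D.ET ht h1.2
    · rw [hcT, ← D.cT, ← D.norm]
      exact hE.2 _ hgE.isConj
  · intro k k' hk
    obtain ⟨α, hα, h1, h2, h3⟩ := D.tor k k' hk
    have hαT : ∀ t ∈ T, α t ∈ T := by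
      intro t ht
      obtain ⟨i, j, l, rfl⟩ := D.gT t ht
      rw [hα.map_mul (pow_mem hU _) (mul_mem (pow_mem hX _) (pow_mem hY _)),
        hα.map_mul (pow_mem hX _) (pow_mem hY _), hα.map_pow hX, hα.map_pow hY, hα.map_pow hU, h1, h2, h3]
      exact mul_mem (pow_mem (pow_mem hU _) _) (mul_mem (pow_mem (pow_mem hX _) _) (pow_mem (pow_mem hY _) _))
    have hm := hgT.minv_isMap
    have hαm : IsMap F (img T g) (fun z => α (minv T g z)) := hα.comp hm (fun z hz => hgT.minv_mem hz)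
    have hc : IsMap F (img T g) (fun z => g (α (minv T g z))) :=
      hgT.comp hαm (fun z hz => hαT _ (hgT.minv_mem hz))
    refine ⟨_, hc, ?_, ?_, ?_⟩
    · show g (α (minv T g (g X))) = _
      rw [hgT.minv_apply hX, h1, hgT.map_pow hX]
    · show g (α (minv T g (g Y))) = _
      rw [hgT.minv_apply hY, h2, hgT.map_pow hY]
    · show g (α (minv T g (g U))) = _
      rw [hgT.minv_apply hU, h3, hgT.map_pow hU]

/-- a suitable exponent -/
theorem exists_exponent (hp5 : 5 ≤ p) : ∃ k k' : ℕ, k * k' ≡ 1 [MOD p] ∧ ¬ k * k ≡ 1 [MOD p] ∧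
    ¬ k * k * k ≡ 1 [MOD p] := by
  obtain ⟨g, hg⟩ := IsCyclic.exists_generator (α := (ZMod p)ˣ)
  have ho : orderOf g = p - 1 := by
    rw [orderOf_eq_card_of_forall_mem_zpowers hg, Nat.card_eq_fintype_card, ZMod.card_units]
  have hv : ∀ u : (ZMod p)ˣ, (((u : ZMod p).val : ℕ) : ZMod p) = u := fun u => ZMod.natCast_zmod_val _
  refine ⟨(g : ZMod p).val, ((g⁻¹ : (ZMod p)ˣ) : ZMod p).val, ?_, ?_, ?_⟩
  · rw [← ZMod.natCast_eq_natCast_iff, Nat.cast_mul, hv, hv, Nat.cast_one, ← Units.val_mul, mul_inv_cancel,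
      Units.val_one]
  · rw [← ZMod.natCast_eq_natCast_iff, Nat.cast_mul, hv, Nat.cast_one, ← Units.val_mul]
    intro h
    have h1 : g ^ 2 = 1 := by rw [pow_two]; exact Units.ext h
    have h2 := Nat.le_of_dvd (by norm_num) (orderOf_dvd_of_pow_eq_one h1)
    omega
  · rw [← ZMod.natCast_eq_natCast_iff, Nat.cast_mul, Nat.cast_mul, hv, Nat.cast_one, ← Units.val_mul, ← Units.val_mul]
    intro h
    have h1 : g ^ 3 = 1 := by rw [pow_succ, pow_two]; exact Units.ext h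
    have h2 := Nat.le_of_dvd (by norm_num) (orderOf_dvd_of_pow_eq_one h1)
    omega

theorem TData.exp_T (D : TData F p X Y U E T) (hp2 : p ≠ 2) : ∀ t ∈ T, t ^ p = 1 := by
  intro t ht
  obtain ⟨i, j, l, rfl⟩ := D.gT t ht
  have cux : Commute U X := D.ux
  have cxy : Commute X Y := D.xy
  have h1 : ∀ l : ℕ, U * Y ^ l * U⁻¹ = Y ^ l * X ^ l := by
    intro l
    rw [← conj_pow, D.uy, cxy.symm.mul_pow]
  have h2 : ∀ i l : ℕ, U ^ i * Y ^ l * (U ^ i)⁻¹ = Y ^ l * X ^ (l * i) := by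
    intro i l
    induction i with
    | zero => simp
    | succ i ih =>
      have e : U ^ (i + 1) * Y ^ l * (U ^ (i + 1))⁻¹ = U * (U ^ i * Y ^ l * (U ^ i)⁻¹) * U⁻¹ := by
        rw [pow_succ']; group
      have e2 : U * (Y ^ l * X ^ (l * i)) * U⁻¹ = (U * Y ^ l * U⁻¹) * (U * X ^ (l * i) * U⁻¹) := by group
      have e3 : U * X ^ (l * i) * U⁻¹ = X ^ (l * i) := by rw [(cux.pow_right _).eq]; group
      rw [e, ih, e2, h1, e3, mul_assoc, ← pow_add]
      congr 2
      ring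
  have h3 : ⁅X ^ j * Y ^ l, U ^ i⁆ = (X ^ (l * i))⁻¹ := by
    rw [commutatorElement_def]
    have e : X ^ j * Y ^ l * U ^ i * (X ^ j * Y ^ l)⁻¹ * (U ^ i)⁻¹ =
        X ^ j * Y ^ l * (U ^ i * (Y ^ l)⁻¹ * ((X ^ j)⁻¹ * (U ^ i)⁻¹)) := by group
    have e1 : (X ^ j)⁻¹ * (U ^ i)⁻¹ = (U ^ i)⁻¹ * (X ^ j)⁻¹ := (((cux.pow_pow i j).inv_inv).eq).symm
    have e2 : U ^ i * (Y ^ l)⁻¹ * ((U ^ i)⁻¹ * (X ^ j)⁻¹) = (U ^ i * Y ^ l * (U ^ i)⁻¹)⁻¹ * (X ^ j)⁻¹ := by group
    rw [e, e1, e2, h2]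
    have e3 : X ^ j * Y ^ l * ((Y ^ l * X ^ (l * i))⁻¹ * (X ^ j)⁻¹) =
        X ^ j * (Y ^ l * (X ^ (l * i))⁻¹ * (Y ^ l)⁻¹) * (X ^ j)⁻¹ := by group
    have e4 : Y ^ l * (X ^ (l * i))⁻¹ * (Y ^ l)⁻¹ = (X ^ (l * i))⁻¹ := by
      rw [((cxy.symm.pow_pow l (l * i)).inv_right).eq]; group
    rw [e3, e4]; group
  have c1 : Commute ⁅X ^ j * Y ^ l, U ^ i⁆ (U ^ i) := by
    rw [h3]; exact (cux.symm.pow_pow _ _).inv_left
  have c2 : Commute ⁅X ^ j * Y ^ l, U ^ i⁆ (X ^ j * Y ^ l) := by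
    rw [h3]
    exact (((Commute.refl X).pow_pow _ _).mul_right (cxy.pow_pow _ _)).inv_left
  rw [Cfsg.Agent.ZJ.mul_pow_class_two c1 c2, h3]
  have hcp : p ∣ p.choose 2 := hp.out.dvd_choose_self two_ne_zero (lt_of_le_of_ne hp.out.two_le (Ne.symm hp2))
  obtain ⟨m, hm⟩ := hcp
  have f1 : (U ^ i) ^ p = 1 := by rw [← pow_mul, mul_comm, pow_mul, D.Up, one_pow]
  have f2 : (X ^ j * Y ^ l) ^ p = 1 := by
    rw [(cxy.pow_pow j l).mul_pow, ← pow_mul, ← pow_mul, mul_comm l, mul_comm j, pow_mul, pow_mul,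
      D.Xp, D.Yp, one_pow, one_pow, one_mul]
  have f3 : ((X ^ (l * i))⁻¹) ^ p.choose 2 = 1 := by
    rw [hm, pow_mul, inv_pow, ← pow_mul, mul_comm (l * i), pow_mul, D.Xp, one_pow, inv_one, one_pow]
  rw [f1, f2, f3, one_mul, one_mul]

theorem TData.absurd' [Finite S] (hp5 : 5 ≤ p) (hS : IsPGroup p S) (hF : F.IsSaturated p)
    (hr : ∀ A : Subgroup Ω, A ≤ S → IsElementaryAbelian p A → Nat.card A ≤ p ^ 2)
    (D : TData F p X Y U E T) (hc : F.IsCentric E) (hTn : F.IsFullyNormalized T) (hne : T ≠ S) : False := by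
  have hTc : F.IsCentric T := isCentric_of_le hc D.ET D.TS
  obtain ⟨N, hN⟩ := exists_isNormalizerSystem F hTn.1
  haveI hfN : Finite (normalizerIn S T) := finite_of_le (normalizerIn_le T)
  have hSN : IsPGroup p (normalizerIn S T) := isPGroup_of_le hS (normalizerIn_le T)
  obtain ⟨L, hLg, ι, hM⟩ := exists_model hSN (isConstrained_normSys hS hF hTn hTc hN)
  haveI : Finite L := hM.1
  have hι : Function.Injective ι := hM.2.1.1
  have hrL := rank_model (S := normalizerIn S T) (p := p) (fun A hA => hr A (hA.trans (normalizerIn_le T))) hι hM.2.2.1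
  have hTR : T ≤ normalizerIn S T := le_normalizerIn D.TS
  have hTN : N.IsNormal T := isNormal_normSys D.TS hN
  have hTcore : T ≤ coreOf p ι := le_coreOf_of_normal hM hSN hTN
  have hcore : ∀ r ∈ normalizerIn S T, jj ι r ∈ pCore p L := by
    intro r hr
    by_contra hnot
    obtain ⟨x₀, y₀, u₀, q1, -⟩ := main hp5 hrL hM.2.2.2 (a := jj ι r) (pelt_of_mem hSN hr) hnot
    have h1 := card_coreOf (p := p) hι hM.2.2.1
    haveI : Finite (coreOf p ι) := finite_of_le (coreOf_le (p := p) (ι := ι))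
    have h2 : Nat.card T ≤ Nat.card (coreOf p ι) := card_le_of_le hTcore
    rw [h1, q1, D.cT] at h2
    have h3 : p ^ 2 < p ^ 3 := Nat.pow_lt_pow_right hp.out.one_lt (by norm_num)
    omega
  have hX := D.ET D.hX
  have hY := D.ET D.hY
  have hU := D.hU
  have hXR := hTR hX
  have hYR := hTR hY
  have hUR := hTR hU
  have hnT : (imj ι T).Normal := by
    constructor
    intro n hn g
    obtain ⟨x, hx, rfl⟩ := (mem_imj hTR).1 hn
    obtain ⟨y, hy, h1⟩ := imj_normal hSN hM hTN g hx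
    rw [← h1]
    exact jj_mem_imj hTR hy
  obtain ⟨k, k', hkk, hk2, hk3⟩ := exists_exponent hp5
  obtain ⟨α, hα, h1, h2, h3⟩ := D.tor k k' hkk
  have hαT : img T α = T := by
    haveI : Finite T := finite_of_le D.TS
    refine eq_of_le_of_card_ge ?_ ?_
    · rw [hα.img_le_iff]
      intro t ht
      obtain ⟨i, j, l, rfl⟩ := D.gT t ht
      rw [hα.map_mul (pow_mem hU _) (mul_mem (pow_mem hX _) (pow_mem hY _)),
        hα.map_mul (pow_mem hX _) (pow_mem hY _), hα.map_pow hX, hα.map_pow hY, hα.map_pow hU, h1, h2, h3]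
      exact mul_mem (pow_mem (pow_mem hU _) _) (mul_mem (pow_mem (pow_mem hX _) _) (pow_mem (pow_mem hY _) _))
    · rw [hα.card_img]
  have hαN : IsMap N T α := (isMap_normSys_of_le hN le_rfl).2 ⟨hTR, hα, hαT⟩
  obtain ⟨-, -, h, hh⟩ := (isMap_realized hM.2.1).1 hαN
  have hfix : ∀ g ∈ pCore p L, ∃ r ∈ normalizerIn S T, jj ι r = g := by
    intro g hg
    obtain ⟨r, hr, h4⟩ := pCore_exists hM hg
    exact ⟨r, coreOf_le hr, h4⟩
  obtain ⟨n, hnN, hnT'⟩ := SetLike.exists_of_lt (lt_normalizerIn hS (lt_of_le_of_ne D.TS hne))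
  refine lemmaD (L := L) (p := p) (by omega) (T := imj ι T) (P := pCore p L) hnT (pCore_normal' p L)
    (isPGroup_pCore p L) ?_ hrL (x := jj ι X) (y := jj ι Y) (u := jj ι U) (h := h) (jj_mem_imj hTR hX)
    (jj_mem_imj hTR hY) (jj_mem_imj hTR hU) ?_ ?_ ?_ ?_ ?_ ?_ ?_ ?_ ?_ ?_ hkk hk2 hk3 ?_ ?_ ?_
  · refine lt_of_le_of_ne ?_ ?_
    · intro y hy
      obtain ⟨x, hx, rfl⟩ := (mem_imj hTR).1 hy
      exact hcore x (hTR hx)
    · intro heq
      have h4 := hcore n hnN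
      rw [← heq] at h4
      obtain ⟨t, ht, h5⟩ := (mem_imj hTR).1 h4
      have h6 := jj_inj hι (hTR ht) hnN h5
      exact hnT' (h6 ▸ ht)
  · intro g hg
    obtain ⟨t, ht, rfl⟩ := (mem_imj hTR).1 hg
    obtain ⟨i, j, l, rfl⟩ := D.gT t ht
    refine ⟨i, j, l, ?_⟩
    rw [jj_mul (pow_mem hUR _) (mul_mem (pow_mem hXR _) (pow_mem hYR _)),
      jj_mul (pow_mem hXR _) (pow_mem hYR _), jj_pow hXR, jj_pow hYR, jj_pow hUR]
  · rw [← D.cT]
    unfold imj
    rw [← Nat.card_congr (equivMapOfInjective _ ι hι).toEquiv, Nat.card_congr (subgroupOfEquivOfLe hTR).toEquiv]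
  · rw [← jj_pow hXR, D.Xp, jj_one]
  · rw [← jj_pow hYR, D.Yp, jj_one]
  · rw [← jj_pow hUR, D.Up, jj_one]
  · rw [← jj_mul hUR hXR, D.ux, jj_mul hXR hUR]
  · rw [← jj_mul hXR hYR, D.xy, jj_mul hYR hXR]
  · rw [← jj_conj hUR hYR, D.uy, jj_mul hYR hXR]
  · intro g hg hgt
    obtain ⟨r, hr, rfl⟩ := hfix g hg
    have h4 : r ∈ centralizerIn S T := by
      rw [mem_centralizerIn]
      refine ⟨hr.1, fun t ht => ?_⟩
      apply jj_inj hι (mul_mem (hTR ht) hr) (mul_mem hr (hTR ht))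
      rw [jj_mul (hTR ht) hr, jj_mul hr (hTR ht)]
      exact (hgt _ (jj_mem_imj hTR ht)).symm
    exact jj_mem_imj hTR (centric_centralizer_le hTc h4)
  · intro g hg hge
    obtain ⟨r, hr, rfl⟩ := hfix g hg
    have h4 : r ∈ normalizerIn S E := by
      refine ⟨hr.1, ?_⟩
      haveI : Finite E := finite_of_le (D.ET.trans D.TS)
      apply mem_normalizer_of_conj
      intro e he
      obtain ⟨i, j, rfl⟩ := D.gE e he
      obtain ⟨i', j', h5⟩ := hge i j
      have h6 : r * (X ^ i * Y ^ j) * r⁻¹ = X ^ i' * Y ^ j' := by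
        have m1 : X ^ i * Y ^ j ∈ normalizerIn S T := mul_mem (pow_mem hXR _) (pow_mem hYR _)
        apply jj_inj hι (mul_mem (mul_mem hr m1) (inv_mem hr)) (mul_mem (pow_mem hXR _) (pow_mem hYR _))
        rw [jj_conj hr m1, jj_mul (pow_mem hXR _) (pow_mem hYR _), jj_mul (pow_mem hXR _) (pow_mem hYR _),
          jj_pow hXR, jj_pow hYR, jj_pow hXR, jj_pow hYR, h5]
      rw [h6]
      exact mul_mem (pow_mem D.hX _) (pow_mem D.hY _)
    rw [D.norm] at h4
    exact jj_mem_imj hTR h4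
  · rw [← hh _ hX, h1, jj_pow hXR]
  · rw [← hh _ hY, h2, jj_pow hYR]
  · rw [← hh _ hU, h3, jj_pow hUR]

end

theorem rank_two_resistant {Ω : Type u} [Group Ω] {S : Subgroup Ω} [Finite S] {p : ℕ} [hp : Fact p.Prime]
    (hS : IsPGroup p S) {F : FusionSystem S} (hF : F.IsSaturated p) (hp5 : 5 ≤ p)
    (hr : ∀ A : Subgroup Ω, A ≤ S → IsElementaryAbelian p A → Nat.card A ≤ p ^ 2)
    (hnotE : ¬ (Nat.card S = p ^ 3 ∧ Monoid.exponent ↥S = p)) : F.IsNormal S := by
  apply isNormal_of_essential hS hF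
  rintro P (rfl | hP)
  · exact ⟨le_rfl, fun α _ x hx => ofAut_mem α hx⟩
  · exfalso
    have hPne : P ≠ S := essential_ne_self hS hF hP
    obtain ⟨X, Y, U, D⟩ := exists_TData hp5 hS hF hr hP.1 hP.2.1 (essential_isRadical hS hP) hPne
    have hp2 : p ≠ 2 := by omega
    have hTne : normalizerIn S P ≠ S := by
      intro heq
      apply hnotE
      have hcS : Nat.card S = p ^ 3 := by rw [← heq]; exact D.cT
      refine ⟨hcS, ?_⟩
      have hexp : ∀ s : S, s ^ p = 1 := by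
        intro s
        apply Subtype.ext
        exact D.exp_T hp2 s (by rw [heq]; exact s.2)
      have h1 : Monoid.exponent S ∣ p := Monoid.exponent_dvd_of_forall_pow_eq_one hexp
      rcases (Nat.dvd_prime hp.out).1 h1 with h2 | h2
      · exfalso
        rw [Monoid.exp_eq_one_iff] at h2
        have h3 : Nat.card S = 1 := Nat.card_unique
        rw [hcS] at h3
        have := Nat.one_lt_pow (n := 3) (by norm_num) hp.out.one_lt
        omega
      · exact h2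
    obtain ⟨Q, hTQ, hQ⟩ := exists_fullyNormalized (F := F) (normalizerIn_le (S := S) P)
    obtain ⟨g, hg, himg, -⟩ := sat_exists_normalizer_map hS hF hQ hTQ
    have D' := D.transport hg hP.2.1
    rw [himg] at D'
    have hgP : IsMap F P g := hg.mono ((le_normalizerIn hP.1.1).trans (le_normalizerIn (normalizerIn_le P)))
    have hQne : Q ≠ S := by
      rintro rfl
      apply hTne
      refine eq_of_le_of_card_ge (normalizerIn_le P) ?_
      rw [isConj_card_eq hTQ]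
    exact D'.absurd' hp5 hS hF hr (IsCentric_of_isConj hP.1 hgP.isConj) hQ hQne

end Cfsg.Agent.R2P
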